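import Groth.Agent.SliceLib.Ring
import Groth.Agent.BertiniAff.Quot

/-!
# Smooth hypersurfaces through a prime of a smooth algebra

If `a` is an element of a prime `P` of a smooth `R`-algebra `A` whose differential does not vanish at
`P`, then near `P` it is a nonzerodivisor and cuts out a smooth `R`-algebra.
-/

set_option autoImplicit false
set_option backward.isDefEq.respectTransparency false
set_option linter.style.haveILetI false

open TensorProduct

namespace Groth.Agent.FlatCartHx

universe u

theorem exists_smooth_hypersurface {R A : Type u} [CommRing R] [CommRing A] [Algebra R A]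
    [Algebra.Smooth R A] (P : Ideal A) [P.IsPrime] (a : A)
    (hd : (1 : IsLocalRing.ResidueField (Localization.AtPrime P)) ⊗ₜ[Localization.AtPrime P]
      KaehlerDifferential.D R (Localization.AtPrime P) (algebraMap A (Localization.AtPrime P) a) ≠ 0) :
    ∃ g ∉ P, algebraMap A (Localization.Away g) a ∈ nonZeroDivisors (Localization.Away g) ∧
      Algebra.Smooth R (Localization.Away g ⧸
        Ideal.span {algebraMap A (Localization.Away g) a}) := by
  classical
  let Ap := Localization.AtPrime P
  let K := IsLocalRing.ResidueField Ap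
  let lp : Ω[A⁄R] →ₗ[A] Ω[Ap⁄R] := KaehlerDifferential.map R R A Ap
  haveI : Algebra.FormallySmooth R Ap := Algebra.FormallySmooth.comp R A Ap
  haveI : IsLocalizedModule P.primeCompl lp := inferInstance
  haveI : Algebra.EssFiniteType A Ap := .of_isLocalization _ P.primeCompl
  haveI : Algebra.EssFiniteType R Ap := .comp R A Ap
  haveI : Module.FinitePresentation Ap Ω[Ap⁄R] := Module.finitePresentation_of_projective _ _
  let v : A → Ω[Ap⁄R] := fun x => lp (KaehlerDifferential.D R A x)
  have hva : v a = KaehlerDifferential.D R Ap (algebraMap A Ap a) := by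
    simp [v, lp]
  have hspan : Submodule.span Ap (Set.range v) = ⊤ := by
    have := span_eq_top_of_isLocalizedModule Ap P.primeCompl lp
      (KaehlerDifferential.span_range_derivation R A)
    rwa [← Set.range_comp] at this
  let vk : A → K ⊗[Ap] Ω[Ap⁄R] := fun x => TensorProduct.mk Ap K _ 1 (v x)
  have hspank : Submodule.span K (Set.range vk) = ⊤ := by
    have h := congrArg (Submodule.baseChange K) hspan
    rw [Submodule.baseChange_span, Submodule.baseChange_top, ← Set.range_comp] at h
    exact h
  have hli0 : LinearIndepOn K vk {a} :=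
    LinearIndepOn.singleton (by show (1 : K) ⊗ₜ v a ≠ 0; rw [hva]; exact hd)
  obtain ⟨κ, -, haκ', hsub, hliκ⟩ := exists_linearIndepOn_extension hli0 (Set.subset_univ _)
  have haκ : a ∈ κ := haκ' rfl
  have hspκ : Submodule.span K (Set.range fun i : κ => vk i) = ⊤ := by
    rw [eq_top_iff, ← hspank, Submodule.span_le, ← Set.image_univ,
      show Set.range (fun i : κ => vk i) = vk '' κ from by ext; simp]
    exact hsub
  obtain ⟨b, hb⟩ := Module.exists_basis_of_basis_baseChange (R := Ap) (fun i : κ => v i) hliκ hspκ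
    (Module.Flat.rTensor_preserves_injective_linearMap
      (IsLocalRing.maximalIdeal Ap).subtype Subtype.val_injective)
  haveI : Finite κ := Module.Finite.finite_basis b
  let e : (κ →₀ A) →ₗ[A] Ω[A⁄R] :=
    Finsupp.linearCombination A fun i : κ => KaehlerDifferential.D R A (i : A)
  let l₁ : (κ →₀ A) →ₗ[A] (κ →₀ Ap) := Finsupp.mapRange.linearMap (Algebra.linearMap A Ap)
  let eₚ : (κ →₀ Ap) →ₗ[Ap] Ω[Ap⁄R] := IsLocalizedModule.mapExtendScalars P.primeCompl l₁ lp Ap e
  have : eₚ = b.repr.symm := by
    ext i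
    trans IsLocalizedModule.map P.primeCompl l₁ lp e <| l₁ <| Finsupp.single i 1
    · simp [eₚ, -IsLocalizedModule.map_apply, l₁]
    · simp [lp, v, e, hb]
  have heₚ : Function.Bijective eₚ := this ▸ b.repr.symm.bijective
  obtain ⟨g, hg, h⟩ := Module.FinitePresentation.exists_notMem_bijective e P l₁ lp heₚ
  let Ag := Localization.Away g
  let l₁g : (κ →₀ A) →ₗ[A] (κ →₀ Ag) := Finsupp.mapRange.linearMap (Algebra.linearMap A _)
  let l₂g : Ω[A⁄R] →ₗ[A] Ω[Ag⁄R] := KaehlerDifferential.map R R A Ag
  rw [← IsLocalizedModule.map_bijective_iff_localizedModuleMap_bijective l₁g l₂g] at h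
  let eg : (κ →₀ Ag) →ₗ[Ag] Ω[Ag⁄R] :=
    IsLocalizedModule.mapExtendScalars (Submonoid.powers g) l₁g l₂g Ag e
  let βκ : Module.Basis κ Ag (Ω[Ag⁄R]) := .ofRepr (LinearEquiv.ofBijective eg h).symm
  have hβ : ∀ i : κ, βκ i = KaehlerDifferential.D R Ag (algebraMap A Ag i) := fun i => by
    simp +zetaDelta [IsLocalizedModule.map_linearCombination]
  obtain ⟨n, ⟨ε⟩⟩ := Finite.exists_equiv_fin κ
  haveI : Algebra.Smooth R Ag := Algebra.Smooth.comp R A Ag
  let bX : Fin n → Ag := fun i => algebraMap A Ag (ε.symm i : A)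
  have het := SliceLib.etale_aeval_of_basis bX (βκ.reindex ε) fun i => by
    rw [Module.Basis.reindex_apply, hβ]
  let M := MvPolynomial (Fin n) R
  letI : Algebra M Ag := (MvPolynomial.aeval bX).toRingHom.toAlgebra
  haveI : Algebra.Etale M Ag := het
  haveI : Module.Flat M Ag := inferInstance
  have hX : algebraMap M Ag (MvPolynomial.X (ε ⟨a, haκ⟩)) = algebraMap A Ag a := by
    show MvPolynomial.aeval bX _ = _
    rw [MvPolynomial.aeval_X]
    simp [bX]
  refine ⟨g, hg, ?_, ?_⟩
  · have hinj : Function.Injective (LinearMap.mulLeft M (MvPolynomial.X (R := R) (ε ⟨a, haκ⟩))) := by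
      intro x y hxy
      exact (MvPolynomial.X_mul_cancel_left_iff (i := ε ⟨a, haκ⟩)).1 hxy
    have h' := Module.Flat.lTensor_preserves_injective_linearMap (M := Ag) _ hinj
    rw [mem_nonZeroDivisors_iff_right]
    intro z hz
    have hz' : (LinearMap.mulLeft M (MvPolynomial.X (R := R) (ε ⟨a, haκ⟩))).lTensor Ag (z ⊗ₜ 1) = 0 := by
      rw [LinearMap.lTensor_tmul, LinearMap.mulLeft_apply, mul_one,
        ← mul_one (MvPolynomial.X (R := R) (ε ⟨a, haκ⟩)), ← smul_eq_mul, ← TensorProduct.smul_tmul,
        Algebra.smul_def, hX, mul_comm, hz, TensorProduct.zero_tmul]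
    have := congrArg (TensorProduct.rid M Ag) (h' (hz'.trans (map_zero _).symm))
    simpa using this
  · haveI : Algebra.FormallySmooth R (Ag ⧸ Ideal.span {algebraMap A Ag a}) := by
      refine BertiniAff.formallySmooth_quotient _ (βκ.coord ⟨a, haκ⟩) ?_
      rw [← hβ ⟨a, haκ⟩]
      simp [Module.Basis.coord_apply]
    exact ⟨inferInstance, Algebra.FinitePresentation.quotient ⟨{algebraMap A Ag a}, by simp [Ag]⟩⟩

end Groth.Agent.FlatCartHx
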