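import Groth.Agent.FlatCartHx.Basic
import Mathlib.AlgebraicGeometry.Morphisms.Smooth

/-!
# Smooth effective Cartier divisors through a smooth point

A germ in the maximal ideal at a smooth point whose differential does not vanish at the point is cut out
near the point by a nonzerodivisor with smooth zero scheme.
-/

set_option autoImplicit false
set_option backward.isDefEq.respectTransparency false
set_option linter.style.haveILetI false

open TensorProduct AlgebraicGeometry CategoryTheory

namespace Groth.Agent.FlatCartHx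

universe u

theorem one_tmul_eq_zero_iff {L : Type u} [CommRing L] [IsLocalRing L] {N : Type u} [AddCommGroup N]
    [Module L N] (ω : N) :
    (1 : IsLocalRing.ResidueField L) ⊗ₜ[L] ω = 0 ↔
      ω ∈ IsLocalRing.maximalIdeal L • (⊤ : Submodule L N) := by
  rw [← Submodule.Quotient.mk_eq_zero,
    ← map_eq_zero_iff _ (TensorProduct.quotTensorEquivQuotSMul N (IsLocalRing.maximalIdeal L)).injective]
  refine Eq.congr_left ?_
  show TensorProduct.quotTensorEquivQuotSMul N (IsLocalRing.maximalIdeal L)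
    (Ideal.Quotient.mk _ (1 : L) ⊗ₜ[L] ω) = _
  rw [TensorProduct.quotTensorEquivQuotSMul_mk_tmul, one_smul]

/-- Nonvanishing of a differential at a prime, transferred from another model of the local ring and a
bigger base. -/
theorem differential_ne_zero_of_model {R T A L : Type u} [CommRing R] [CommRing T] [CommRing A]
    [CommRing L] [IsLocalRing L] [Algebra R A] [Algebra A L] [Algebra R L] [IsScalarTower R A L]
    [Algebra R T] [Algebra T L] [IsScalarTower R T L] (P : Ideal A) [P.IsPrime]
    [IsLocalization.AtPrime L P] (a : A)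
    (h : (1 : IsLocalRing.ResidueField L) ⊗ₜ[L]
      KaehlerDifferential.D T L (algebraMap A L a) ≠ 0) :
    (1 : IsLocalRing.ResidueField (Localization.AtPrime P)) ⊗ₜ[Localization.AtPrime P]
      KaehlerDifferential.D R (Localization.AtPrime P) (algebraMap A (Localization.AtPrime P) a) ≠ 0 := by
  let Ap := Localization.AtPrime P
  let e : Ap ≃ₐ[A] L := IsLocalization.algEquiv P.primeCompl Ap L
  letI : Algebra Ap L := e.toRingEquiv.toRingHom.toAlgebra
  haveI : IsScalarTower R Ap L := IsScalarTower.of_algebraMap_eq fun r => by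
    rw [IsScalarTower.algebraMap_apply R A L, IsScalarTower.algebraMap_apply R A Ap]
    exact (e.commutes _).symm
  haveI : SMulCommClass T Ap L := ⟨fun t x y => by simp only [Algebra.smul_def]; ring⟩
  intro h0
  apply h
  rw [one_tmul_eq_zero_iff] at h0 ⊢
  let μ : Ω[Ap⁄R] →ₗ[Ap] Ω[L⁄T] := KaehlerDifferential.map R T Ap L
  have hμ : μ (KaehlerDifferential.D R Ap (algebraMap A Ap a)) =
      KaehlerDifferential.D T L (algebraMap A L a) := by
    rw [show μ _ = _ from KaehlerDifferential.map_D R T Ap L _]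
    exact congrArg _ (e.commutes a)
  have h1 : μ (KaehlerDifferential.D R Ap (algebraMap A Ap a)) ∈
      (IsLocalRing.maximalIdeal Ap • (⊤ : Submodule Ap Ω[Ap⁄R])).map μ :=
    Submodule.mem_map_of_mem h0
  rw [Submodule.map_smul''] at h1
  rw [← hμ]
  refine Submodule.smul_induction_on h1 (fun r hr ω _ => ?_) fun x y hx hy => add_mem hx hy
  rw [← algebraMap_smul L r ω]
  refine Submodule.smul_mem_smul ?_ trivial
  intro hu
  exact hr ((isUnit_map_iff e.toRingEquiv r).1 hu)

variable {X S : Scheme.{u}} (f : X ⟶ S)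

theorem appLE_smooth {W : X.Opens} (hW : Smooth (W.ι ≫ f)) {V : S.Opens} (hV : IsAffineOpen V)
    {U : X.Opens} (hU : IsAffineOpen U) (hUW : U ≤ W) (hUV : U ≤ f ⁻¹ᵁ V) :
    (f.appLE V U hUV).hom.Smooth := by
  haveI : IsAffine V := hV
  haveI : IsAffine U := hU
  have h1 : Smooth (f.resLE V U hUV ≫ V.ι) := by
    rw [Scheme.Hom.resLE_comp_ι, ← X.homOfLE_ι hUW, Category.assoc]
    infer_instance
  have h2 : Smooth (f.resLE V U hUV) :=
    MorphismProperty.of_postcomp @Smooth _ V.ι (W' := @IsOpenImmersion) inferInstance h1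
  rw [HasRingHomProperty.iff_of_isAffine (P := @Smooth)] at h2
  exact (RingHom.Smooth.propertyIsLocal.respectsIso.arrow_mk_iso_iff
    (arrowResLEAppIso f V U hUV)).mp h2

/-- The main local statement, stated for the germ. -/
theorem exists_cartier (x : X) (W : X.Opens) (hxW : x ∈ W) (hW : Smooth (W.ι ≫ f))
    (h : X.presheaf.stalk x) (hm : h ∈ IsLocalRing.maximalIdeal (X.presheaf.stalk x))
    (hd : letI := (f.stalkMap x).hom.toAlgebra
      (1 : IsLocalRing.ResidueField (X.presheaf.stalk x)) ⊗ₜ[X.presheaf.stalk x]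
          (KaehlerDifferential.D (S.presheaf.stalk (f x)) (X.presheaf.stalk x) h) ≠ 0) :
    ∃ (U : X.Opens) (hU : IsAffineOpen U) (hx : x ∈ U) (h' : Γ(X, U)), X.presheaf.germ U x hx h' = h ∧
      h' ∈ nonZeroDivisors Γ(X, U) ∧
      Smooth (Spec.map (CommRingCat.ofHom (Ideal.Quotient.mk (Ideal.span {h'}))) ≫ hU.fromSpec ≫ f) := by
  obtain ⟨O, hxO, s, rfl⟩ := X.presheaf.exists_germ_eq h
  obtain ⟨V, hV, hxV, -⟩ := exists_isAffineOpen_mem_and_subset (x := f x) (U := ⊤) trivial
  obtain ⟨U, hU, hxU, hUle⟩ := exists_isAffineOpen_mem_and_subset (x := x)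
    (U := O ⊓ W ⊓ f ⁻¹ᵁ V) ⟨⟨hxO, hxW⟩, hxV⟩
  have hUO : U ≤ O := fun z hz => (hUle hz).1.1
  have hUW : U ≤ W := fun z hz => (hUle hz).1.2
  have hUV : U ≤ f ⁻¹ᵁ V := fun z hz => (hUle hz).2
  let R := Γ(S, V)
  let A := Γ(X, U)
  let L := X.presheaf.stalk x
  let T := S.presheaf.stalk (f x)
  let a : A := X.presheaf.map (homOfLE hUO).op s
  have ha : X.presheaf.germ U x hxU a = X.presheaf.germ O x hxO s :=
    X.presheaf.germ_res_apply (homOfLE hUO) x hxU s
  letI : Algebra R A := (f.appLE V U hUV).hom.toAlgebra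
  haveI : Algebra.Smooth R A := appLE_smooth f hW hV hU hUW hUV
  letI : Algebra A L := (X.presheaf.germ U x hxU).hom.toAlgebra
  haveI : IsLocalization.AtPrime L (hU.primeIdealOf ⟨x, hxU⟩).asIdeal := hU.isLocalization_stalk ⟨x, hxU⟩
  letI : Algebra T L := (f.stalkMap x).hom.toAlgebra
  letI : Algebra R T := (S.presheaf.germ V (f x) hxV).hom.toAlgebra
  letI : Algebra R L := ((algebraMap A L).comp (algebraMap R A)).toAlgebra
  haveI : IsScalarTower R A L := IsScalarTower.of_algebraMap_eq' rfl
  haveI : IsScalarTower R T L := IsScalarTower.of_algebraMap_eq fun r => by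
    show (X.presheaf.germ U x hxU).hom ((f.appLE V U hUV).hom r) =
      (f.stalkMap x).hom ((S.presheaf.germ V (f x) hxV).hom r)
    erw [Scheme.Hom.germ_stalkMap_apply]
    rw [Scheme.Hom.appLE]
    exact X.presheaf.germ_res_apply _ _ _ _
  let P := (hU.primeIdealOf ⟨x, hxU⟩).asIdeal
  have hd' := differential_ne_zero_of_model (R := R) (T := T) (L := L) P a
    (by show (1 : IsLocalRing.ResidueField L) ⊗ₜ[L] KaehlerDifferential.D T L
          (X.presheaf.germ U x hxU a) ≠ 0
        rw [ha]; exact hd)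
  obtain ⟨g, hg, hnzd, hsm⟩ := exists_smooth_hypersurface P a hd'
  let U' := X.basicOpen g
  have hU'le : U' ≤ U := X.basicOpen_le g
  have hxU' : x ∈ U' := by
    have h1 : hU.primeIdealOf ⟨x, hxU⟩ ∈ PrimeSpectrum.basicOpen g := hg
    erw [← hU.fromSpec_preimage_basicOpen, Scheme.Hom.mem_preimage, hU.fromSpec_primeIdealOf] at h1
    exact h1
  have hU' : IsAffineOpen U' := hU.basicOpen g
  haveI : IsLocalization.Away g Γ(X, U') := hU.isLocalization_basicOpen g
  let e : Localization.Away g ≃ₐ[A] Γ(X, U') := IsLocalization.algEquiv (.powers g) _ _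
  let h' : Γ(X, U') := e (algebraMap A (Localization.Away g) a)
  have hh' : h' = X.presheaf.map (homOfLE hU'le).op a := e.commutes a
  refine ⟨U', hU', hxU', h', ?_, ?_, ?_⟩
  · rw [hh', X.presheaf.germ_res_apply (homOfLE hU'le) x hxU', ha]
  · exact MulEquivClass.map_nonZeroDivisors e ▸ Submonoid.mem_map_of_mem e hnzd
  · let φ : R →+* Γ(X, U') := (f.appLE V U' (hU'le.trans hUV)).hom
    letI : Algebra R Γ(X, U') := φ.toAlgebra
    haveI : IsScalarTower R A Γ(X, U') := IsScalarTower.of_algebraMap_eq fun r => by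
      show (f.appLE V U' _).hom r = X.presheaf.map (homOfLE hU'le).op ((f.appLE V U hUV).hom r)
      rw [← Scheme.Hom.appLE_map f hUV (homOfLE hU'le).op]; rfl
    haveI : Algebra.Smooth R (Γ(X, U') ⧸ Ideal.span {h'}) :=
      Algebra.Smooth.of_equiv (Ideal.quotientEquivAlg (Ideal.span {algebraMap A (Localization.Away g) a})
        (Ideal.span {h'}) (e.restrictScalars R) (by
          rw [Ideal.map_span, Set.image_singleton]; rfl))
    have hkey : Spec.map (CommRingCat.ofHom (Ideal.Quotient.mk (Ideal.span {h'}))) ≫ hU'.fromSpec ≫ f =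
        Spec.map (CommRingCat.ofHom (algebraMap R (Γ(X, U') ⧸ Ideal.span {h'}))) ≫ hV.fromSpec := by
      rw [← hV.SpecMap_appLE_fromSpec f hU' (hU'le.trans hUV), ← Category.assoc, ← Spec.map_comp]
      rfl
    rw [hkey]
    haveI : Smooth (Spec.map (CommRingCat.ofHom (algebraMap R (Γ(X, U') ⧸ Ideal.span {h'})))) :=
      (HasRingHomProperty.Spec_iff (P := @Smooth)).2 (RingHom.smooth_algebraMap.2 inferInstance)
    haveI := hV.isOpenImmersion_fromSpec
    infer_instance

end Groth.Agent.FlatCartHx
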