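import Groth.Agent.FlatCartHx.Scheme
import Groth.Agent.FlatDvr.FibreStalk

/-!
# A smooth point with separable residue field which is not maximal in its fibre

Such a point has a germ in the maximal ideal with nonvanishing differential.
-/

set_option autoImplicit false
set_option backward.isDefEq.respectTransparency false
set_option linter.style.haveILetI false

open TensorProduct AlgebraicGeometry CategoryTheory IsLocalRing

namespace Groth.Agent.FlatCartHx

universe u

/-- Ring form: if all differentials of elements of the maximal ideal vanish at the closed point then the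
maximal ideal comes from the base. -/
theorem maximalIdeal_le_map_of_differential_zero {T L : Type u} [CommRing T] [IsLocalRing T] [CommRing L]
    [IsLocalRing L] [Algebra T L] [IsLocalHom (algebraMap T L)] [Algebra.FormallySmooth T L]
    [Algebra.EssFiniteType T L] [Algebra (ResidueField T) (ResidueField L)]
    [IsScalarTower T (ResidueField T) (ResidueField L)]
    [Algebra.FormallySmooth (ResidueField T) (ResidueField L)]
    (h0 : ∀ h ∈ maximalIdeal L, (1 : ResidueField L) ⊗ₜ[L] KaehlerDifferential.D T L h = 0) :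
    maximalIdeal L ≤ (maximalIdeal T).map (algebraMap T L) := by
  let k := ResidueField T
  let K := ResidueField L
  let I := (maximalIdeal T).map (algebraMap T L)
  have hne : I ≤ maximalIdeal L :=
    Ideal.map_le_iff_le_comap.2 fun a ha hu => ha (isUnit_of_map_unit _ a hu)
  let F := L ⧸ I
  haveI : Nontrivial F :=
    Ideal.Quotient.nontrivial_iff.2 fun h => (maximalIdeal.isMaximal _).ne_top (top_le_iff.1 (h ▸ hne))
  haveI : IsLocalRing F := .of_surjective' _ Ideal.Quotient.mk_surjective
  have hkill : ∀ a ∈ maximalIdeal T, ((Ideal.Quotient.mk I).comp (algebraMap T L)) a = 0 := fun a ha =>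
    Ideal.Quotient.eq_zero_iff_mem.2 (Ideal.mem_map_of_mem _ ha)
  letI : Algebra k F := (Ideal.Quotient.lift (maximalIdeal T) _ hkill).toAlgebra
  haveI : IsScalarTower T k F := IsScalarTower.of_algebraMap_eq fun _ => rfl
  letI : Algebra F K := (Ideal.Quotient.lift I (residue L) fun a ha =>
    (residue_eq_zero_iff a).2 (hne ha)).toAlgebra
  haveI : IsScalarTower L F K := IsScalarTower.of_algebraMap_eq fun _ => rfl
  haveI : IsScalarTower k F K := IsScalarTower.of_algebraMap_eq fun r => by
    obtain ⟨t, rfl⟩ := residue_surjective r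
    exact (IsScalarTower.algebraMap_apply T k K t).symm.trans (IsScalarTower.algebraMap_apply T L K t)
  haveI : Algebra.FormallySmooth k F := by
    refine .of_comp_surjective fun Q _ _ J hJ φ => ?_
    letI : Algebra T Q := ((algebraMap k Q).comp (algebraMap T k)).toAlgebra
    haveI : IsScalarTower T k Q := IsScalarTower.of_algebraMap_eq' rfl
    let ψ : L →ₐ[T] Q := Algebra.FormallySmooth.lift J ⟨2, hJ⟩
      ((φ.restrictScalars T).comp (Ideal.Quotient.mkₐ T I))
    have hψ : I ≤ RingHom.ker ψ.toRingHom := Ideal.map_le_iff_le_comap.2 fun t ht => by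
      show ψ (algebraMap T L t) = 0
      rw [ψ.commutes, IsScalarTower.algebraMap_apply T k Q, show algebraMap T k t = 0 from
        (residue_eq_zero_iff t).2 ht, map_zero]
    refine ⟨{ Ideal.Quotient.lift I ψ.toRingHom (fun a ha => hψ ha) with commutes' := fun r => ?_ }, ?_⟩
    · obtain ⟨t, rfl⟩ := residue_surjective r
      exact (ψ.commutes t).trans (IsScalarTower.algebraMap_apply T k Q t)
    · refine AlgHom.ext fun z => ?_
      obtain ⟨z, rfl⟩ := Ideal.Quotient.mk_surjective z
      exact Algebra.FormallySmooth.mk_lift J ⟨2, hJ⟩ _ z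
  haveI : Algebra.EssFiniteType T F := by
    haveI : Algebra.EssFiniteType L F := inferInstance
    exact .comp T L F
  haveI : Algebra.EssFiniteType k F := .of_comp T k F
  haveI : IsNoetherianRing F := Algebra.EssFiniteType.isNoetherianRing k F
  have hs : Function.Surjective (algebraMap F K) := fun z => by
    obtain ⟨z, rfl⟩ := residue_surjective z
    exact ⟨Ideal.Quotient.mk I z, rfl⟩
  obtain ⟨l, hl⟩ := (Algebra.FormallySmooth.iff_split_injection (R := k) (P := F) hs).1 inferInstance
  have hker : RingHom.ker (algebraMap F K) = maximalIdeal F :=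
    IsLocalRing.eq_maximalIdeal (RingHom.ker_isMaximal_of_surjective _ hs)
  have hsq : maximalIdeal F ≤ maximalIdeal F * maximalIdeal F := by
    intro z hz
    rw [← hker] at hz
    obtain ⟨h, rfl⟩ := Ideal.Quotient.mk_surjective z
    have hh : h ∈ maximalIdeal L := (residue_eq_zero_iff h).1 hz
    have h1 := h0 h hh
    rw [one_tmul_eq_zero_iff] at h1
    let μ : Ω[L⁄T] →ₗ[L] Ω[F⁄k] := KaehlerDifferential.map T k L F
    have hμ : (1 : K) ⊗ₜ[F] μ (KaehlerDifferential.D T L h) = 0 := by
      refine Submodule.smul_induction_on h1 (fun r hr ω _ => ?_) fun x y hx hy => ?_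
      · rw [map_smul, ← algebraMap_smul F r (μ ω), TensorProduct.tmul_smul, TensorProduct.smul_tmul',
          Algebra.smul_def, mul_one,
          show algebraMap F K (algebraMap L F r) = 0 from (residue_eq_zero_iff r).2 hr,
          TensorProduct.zero_tmul]
      · rw [map_add, TensorProduct.tmul_add, hx, hy, add_zero]
    rw [show μ (KaehlerDifferential.D T L h) = KaehlerDifferential.D k F (Ideal.Quotient.mk I h) from
      KaehlerDifferential.map_D T k L F h] at hμ
    have hc : (RingHom.ker (algebraMap F K)).toCotangent ⟨Ideal.Quotient.mk I h, hz⟩ = 0 := by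
      have := LinearMap.congr_fun hl ((RingHom.ker (algebraMap F K)).toCotangent ⟨Ideal.Quotient.mk I h, hz⟩)
      rw [LinearMap.comp_apply, KaehlerDifferential.kerCotangentToTensor_toCotangent, hμ, map_zero,
        LinearMap.id_apply] at this
      exact this.symm
    rw [Ideal.toCotangent_eq_zero, pow_two] at hc
    exact hker ▸ hc
  have hbot : maximalIdeal F = ⊥ :=
    Submodule.eq_bot_of_le_smul_of_le_jacobson_bot (maximalIdeal F) (maximalIdeal F)
      (IsNoetherian.noetherian _) (by rwa [Ideal.smul_eq_mul]) (IsLocalRing.maximalIdeal_le_jacobson _)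
  intro h hh
  refine Ideal.Quotient.eq_zero_iff_mem.1 ((Submodule.mem_bot F).1 (hbot ▸ ?_))
  rw [← hker]
  exact (residue_eq_zero_iff h).2 hh

variable {X S : Scheme.{u}} (f : X ⟶ S)

theorem not_le_of_fiber {y : S} (w : ↥(f.fiber y))
    (hgen : maximalIdeal ↑((f.fiber y).presheaf.stalk w) ≠ ⊥) :
    ¬ maximalIdeal (X.presheaf.stalk (f.fiberι y w)) ≤
      (maximalIdeal (S.presheaf.stalk (f (f.fiberι y w)))).map (f.stalkMap (f.fiberι y w)).hom := by
  intro hle
  rw [← FlatDvr.ker_stalkMap_fiberι] at hle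
  refine hgen (eq_bot_iff.2 fun z hz => ?_)
  obtain ⟨s, rfl⟩ := (f.fiberι y).stalkMap_surjective w z
  have hs : s ∈ maximalIdeal (X.presheaf.stalk (f.fiberι y w)) :=
    fun hu => hz (hu.map ((f.fiberι y).stalkMap w).hom)
  exact (Submodule.mem_bot _).2 (RingHom.mem_ker.1 (hle hs))

theorem exists_differential_ne_zero (x : X) (W : X.Opens) (hxW : x ∈ W) (hW : Smooth (W.ι ≫ f))
    (hsep : letI := (f.residueFieldMap x).hom.toAlgebra
      Algebra.FormallySmooth (S.residueField (f x)) (X.residueField x))
    (hgen : maximalIdeal ↑((f.fiber (f x)).presheaf.stalk (f.asFiber x)) ≠ ⊥) :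
    ∃ h ∈ maximalIdeal (X.presheaf.stalk x),
      letI := (f.stalkMap x).hom.toAlgebra
      (1 : ResidueField (X.presheaf.stalk x)) ⊗ₜ[X.presheaf.stalk x]
          (KaehlerDifferential.D (S.presheaf.stalk (f x)) (X.presheaf.stalk x) h) ≠ 0 := by
  by_contra! hcon
  have hnle : ¬ maximalIdeal (X.presheaf.stalk x) ≤
      (maximalIdeal (S.presheaf.stalk (f x))).map (f.stalkMap x).hom :=
    Scheme.Hom.fiberι_asFiber f x ▸ not_le_of_fiber f (f.asFiber x) hgen
  apply hnle
  obtain ⟨V, hV, hxV, -⟩ := exists_isAffineOpen_mem_and_subset (x := f x) (U := ⊤) trivial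
  obtain ⟨U, hU, hxU, hUle⟩ := exists_isAffineOpen_mem_and_subset (x := x)
    (U := W ⊓ f ⁻¹ᵁ V) ⟨hxW, hxV⟩
  have hUV : U ≤ f ⁻¹ᵁ V := fun z hz => (hUle hz).2
  letI : Algebra Γ(S, V) Γ(X, U) := (f.appLE V U hUV).hom.toAlgebra
  haveI : Algebra.Smooth Γ(S, V) Γ(X, U) :=
    appLE_smooth f hW hV hU (fun z hz => (hUle hz).1) hUV
  letI : Algebra (S.presheaf.stalk (f x)) (X.presheaf.stalk x) := (f.stalkMap x).hom.toAlgebra
  haveI : Algebra.FormallySmooth (S.presheaf.stalk (f x)) (X.presheaf.stalk x) :=
    (formallySmooth_stalkMap_iff V hV U hU hUV hxU).mpr (inferInstanceAs (Algebra.IsSmoothAt _ _))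
  haveI : IsLocalHom (algebraMap (S.presheaf.stalk (f x)) (X.presheaf.stalk x)) :=
    inferInstanceAs (IsLocalHom (f.stalkMap x).hom)
  letI : Algebra Γ(X, U) (X.presheaf.stalk x) := (X.presheaf.germ U x hxU).hom.toAlgebra
  letI : Algebra Γ(S, V) (S.presheaf.stalk (f x)) := (S.presheaf.germ V (f x) hxV).hom.toAlgebra
  letI : Algebra Γ(S, V) (X.presheaf.stalk x) :=
    ((algebraMap Γ(X, U) (X.presheaf.stalk x)).comp (algebraMap Γ(S, V) Γ(X, U))).toAlgebra
  haveI : IsScalarTower Γ(S, V) Γ(X, U) (X.presheaf.stalk x) := IsScalarTower.of_algebraMap_eq' rfl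
  haveI : IsScalarTower Γ(S, V) (S.presheaf.stalk (f x)) (X.presheaf.stalk x) :=
    IsScalarTower.of_algebraMap_eq fun r => by
      show (X.presheaf.germ U x hxU).hom ((f.appLE V U hUV).hom r) =
        (f.stalkMap x).hom ((S.presheaf.germ V (f x) hxV).hom r)
      erw [Scheme.Hom.germ_stalkMap_apply]
      rw [Scheme.Hom.appLE]
      exact X.presheaf.germ_res_apply _ _ _ _
  haveI : IsLocalization.AtPrime (X.presheaf.stalk x) (hU.primeIdealOf ⟨x, hxU⟩).asIdeal :=
    hU.isLocalization_stalk ⟨x, hxU⟩
  haveI : Algebra.EssFiniteType Γ(X, U) (X.presheaf.stalk x) :=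
    .of_isLocalization _ (hU.primeIdealOf ⟨x, hxU⟩).asIdeal.primeCompl
  haveI : Algebra.EssFiniteType Γ(S, V) (X.presheaf.stalk x) := .comp _ Γ(X, U) _
  haveI : Algebra.EssFiniteType (S.presheaf.stalk (f x)) (X.presheaf.stalk x) := .of_comp Γ(S, V) _ _
  letI : Algebra (ResidueField (S.presheaf.stalk (f x))) (ResidueField (X.presheaf.stalk x)) :=
    (f.residueFieldMap x).hom.toAlgebra
  haveI : IsScalarTower (S.presheaf.stalk (f x)) (ResidueField (S.presheaf.stalk (f x)))
      (ResidueField (X.presheaf.stalk x)) := IsScalarTower.of_algebraMap_eq fun _ => rfl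
  haveI : Algebra.FormallySmooth (ResidueField (S.presheaf.stalk (f x)))
      (ResidueField (X.presheaf.stalk x)) := hsep
  exact maximalIdeal_le_map_of_differential_zero hcon

end Groth.Agent.FlatCartHx
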